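import Mathlib
import Cfsg.Prelude.Def_Characters
import Cfsg.Agent.H35.ExcIdxTw_m3
import Cfsg.Agent.S1032
import Cfsg.Agent.ChevalleyStructure.NConj
import Cfsg.Agent.ChevalleyStructure.HMatDiagAll
import Cfsg.Agent.Nodes.LeviDec
import Cfsg.Agent.LieClassical.SLGen
import Cfsg.Agent.ChevFast.E7
import Cfsg.Agent.FastGrp
import Cfsg.Agent.Prune
set_option linter.all false

section
prune_inst 0x7f00000000000000000000000000000000000000000000000000000000000000000000000000000000000000000000000000000000000000000000000000000000000000000000000000000000000000003fffffffffffffffffffffffffffbeffbdffffffff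

-- part: H739/PQ/E7/Defs
section
set_option linter.all false
open scoped Cfsg.Agent.FastGrp

/-!
# `S4612`, `E₇(q)`, primes of orders 5 and 10: the interface (helper739)

`Q` the parabolic subgroup of type `A₄ × A₂` of `G = E₇(q)`, `ρ : Q → GL₅(q)` the action on the five root vectors of
height `3` (coefficient of the fifth simple root). `Dat`: what is needed about `(G, Q, ρ)`. `Psi`: a generalised
character of `GL₅(q)` (the cuspidal character attached to a character of order `p` of the Singer cycle).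
-/

set_option autoImplicit false

namespace Cfsg.Agent.H739.PQ.E7

open Cfsg Matrix
open scoped ComplexConjugate

variable {K : Type*} [Field K] {n : ℕ}

/-- `g` preserves `S` -/
def Pres (g : GL (Fin n) K) (S : Submodule K (Fin n → K)) : Prop := ∀ v ∈ S, (g : Matrix (Fin n) (Fin n) K) *ᵥ v ∈ S

/-- the unipotent radical of the stabiliser of `S` -/
def Uni (S : Submodule K (Fin n → K)) : Subgroup (GL (Fin n) K) where
  carrier := {u | (∀ v, (u : Matrix (Fin n) (Fin n) K) *ᵥ v - v ∈ S) ∧ ∀ v ∈ S, (u : Matrix (Fin n) (Fin n) K) *ᵥ v = v}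
  one_mem' := by
    constructor
    · intro v
      rw [Units.val_one, one_mulVec, sub_self]
      exact S.zero_mem
    · intro v _
      rw [Units.val_one, one_mulVec]
  mul_mem' := by
    rintro a b ⟨ha, ha'⟩ ⟨hb, hb'⟩
    constructor
    · intro v
      rw [Units.val_mul, ← mulVec_mulVec]
      have h1 := S.add_mem (ha ((b : Matrix (Fin n) (Fin n) K) *ᵥ v)) (hb v)
      rwa [sub_add_sub_cancel] at h1
    · intro v hv
      rw [Units.val_mul, ← mulVec_mulVec, hb' v hv, ha' v hv]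
  inv_mem' := by
    rintro a ⟨ha, ha'⟩
    have h0 : ∀ v, (a⁻¹ : Matrix (Fin n) (Fin n) K) *ᵥ ((a : Matrix (Fin n) (Fin n) K) *ᵥ v) = v := by
      intro v
      rw [mulVec_mulVec, ← coe_units_inv, Units.inv_mul, one_mulVec]
    have h0' : ∀ v, (a : Matrix (Fin n) (Fin n) K) *ᵥ ((a⁻¹ : Matrix (Fin n) (Fin n) K) *ᵥ v) = v := by
      intro v
      rw [mulVec_mulVec, ← coe_units_inv, Units.mul_inv, one_mulVec]
    constructor
    · intro v
      rw [coe_units_inv]
      have h1 := ha ((a⁻¹ : Matrix (Fin n) (Fin n) K) *ᵥ v)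
      rw [h0'] at h1
      have h2 := S.neg_mem h1
      rwa [neg_sub] at h2
    · intro v hv
      rw [coe_units_inv]
      have h1 := h0 v
      rwa [ha' v hv] at h1

/-- inverse transpose -/
def tau (g : GL (Fin n) K) : GL (Fin n) K :=
  ⟨((g⁻¹ : GL (Fin n) K) : Matrix (Fin n) (Fin n) K)ᵀ, (g : Matrix (Fin n) (Fin n) K)ᵀ,
    by rw [← transpose_mul, ← Units.val_mul, mul_inv_cancel, Units.val_one, transpose_one],
    by rw [← transpose_mul, ← Units.val_mul, inv_mul_cancel, Units.val_one, transpose_one]⟩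

/-- `H` contains `SL` -/
def HasSL (H : Subgroup (GL (Fin n) K)) : Prop := ∀ g : GL (Fin n) K, (g : Matrix (Fin n) (Fin n) K).det = 1 → g ∈ H

/-- the generalised character of `GL₅(q)` -/
structure Psi (K : Type*) [Field K] [Finite K] (p : ℕ) (ψ : GL (Fin 5) K → ℂ) : Prop where
  gen : IsGeneralizedCharacter (GL (Fin 5) K) ψ
  cusp : ∀ S : Submodule K (Fin 5 → K), S ≠ ⊥ → S ≠ ⊤ → ∀ m, Pres m S → ∑ᶠ u : Uni S, ψ (m * u) = 0
  norm : ∀ H : Subgroup (GL (Fin 5) K), HasSL H → ∑ᶠ h : H, ψ h * conj (ψ h) = Nat.card H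
  dual : ∀ H : Subgroup (GL (Fin 5) K), HasSL H → ∑ᶠ h : H, ψ h * conj (ψ (tau h)) = 0
  one : ∀ H : Subgroup (GL (Fin 5) K), HasSL H → ∑ᶠ h : H, ψ h = 0
  reg : ∀ H : Subgroup (GL (Fin 5) K), HasSL H → ∑ᶠ h : {h : H // ¬ p ∣ orderOf (h : GL (Fin 5) K)}, ψ h.1 ≠ 0

/-- the double coset of `k` does not contribute -/
def Bad {G : Type*} [Group G] {Q : Subgroup G} (ρ : ↥Q →* GL (Fin 5) K) (k : G) : Prop :=
  ∃ S : Submodule K (Fin 5 → K), S ≠ ⊥ ∧ S ≠ ⊤ ∧ (∀ z : ↥Q, k⁻¹ * z * k ∈ Q → Pres (ρ z) S) ∧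
    ∀ u ∈ Uni S, ∃ (z : ↥Q) (hz : k⁻¹ * z * k ∈ Q), ρ z = u ∧ ρ ⟨k⁻¹ * z * k, hz⟩ = 1

/-- the double coset of the longest element -/
def Opp {G : Type*} [Group G] {Q : Subgroup G} (ρ : ↥Q →* GL (Fin 5) K) (k : G) : Prop :=
  (∀ (z : ↥Q) (hz : k⁻¹ * z * k ∈ Q), IsConj (ρ ⟨k⁻¹ * z * k, hz⟩) (tau (ρ z))) ∧
    ∀ g : GL (Fin 5) K, (g : Matrix (Fin 5) (Fin 5) K).det = 1 → ∃ z : ↥Q, k⁻¹ * z * k ∈ Q ∧ ρ z = g

/-- what is needed about the parabolic subgroup -/
structure Dat {G : Type*} [Group G] {Q : Subgroup G} (ρ : ↥Q →* GL (Fin 5) K) : Prop where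
  cases : ∀ a : G, ∃ b ∈ Q, ∃ c ∈ Q, ∃ k, a = b * k * c ∧ (k = 1 ∨ Bad ρ k ∨ Opp ρ k)
  sl : HasSL ρ.range

end Cfsg.Agent.H739.PQ.E7
end

-- part: H154/PQE/Opp
section
set_option linter.all false
open scoped Cfsg.Agent.FastGrp

-- part: H154/PQE/Base
section
/-!
# S4612, `E₇(q)`, primes of orders 5 and 10: weights (task T5 of helper739, helper154)

`wt` : the weight of a basis vector of the adjoint module; `entry_self`, `entry_ne` : the entries of `x_r(t)`;
`Mon w g` : `g` maps the weight spaces to the weight spaces by `w`; `mon_of_rp`; `Fil φ` : the filtration by a functional.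
-/

set_option autoImplicit false
set_option linter.unusedSectionVars false
set_option maxRecDepth 100000

namespace Cfsg.Agent.H154.PQE

open CoxeterSystem Cfsg Cfsg.Lie Cfsg.Lie.ChevalleyDatum
open Cfsg.Agent.ChevalleyStructure Cfsg.Agent.ChevalleyStructure.Elts Cfsg.Agent.ChevalleyStructure.CoxeterGeom
  Cfsg.Agent.ChevalleyStructure.CoxeterGeomTypes Cfsg.Agent.ChevalleyStructure.RootVec
  Cfsg.Agent.ChevalleyStructure.RootVecTab Cfsg.Agent.ChevalleyStructure.NPerm
open Cfsg.Agent.Tits.Roots Cfsg.Agent.Tits.Core Cfsg.Agent.Nodes Cfsg.Agent.Nodes.Reps Cfsg.Agent.Nodes.BNOf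
  Cfsg.Agent.Nodes.RGDChev Cfsg.Agent.H35.ExcIdx

universe u

/-- the Coxeter system -/
abbrev cs7 : CoxeterSystem CoxeterMatrix.E₇ CoxeterMatrix.E₇.Group := CoxeterMatrix.E₇.toCoxeterSystem

/-- the weight of a basis vector -/
def wt : chevE7.Idx → (Fin 7 → ℤ)
  | Sum.inl _ => 0
  | Sum.inr s => vec chevE7 7 s

theorem wt_inl (i : Fin chevE7.rank) : wt (Sum.inl i) = 0 := rfl
theorem wt_inr (s : Fin chevE7.nroots) : wt (Sum.inr s) = vec chevE7 7 s := rfl

theorem vec_ne_zero {r : ℕ} (hr : r < chevE7.nroots) : vec chevE7 7 r ≠ 0 := (isRoot_vec hpE7 cs7 hr).ne_zero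

theorem exists_idx {a : Fin 7 → ℤ} (ha : IsRoot cs7 hpE7.isCartan a) : ∃ s : Fin chevE7.nroots, vec chevE7 7 s = a := by
  obtain ⟨r, hr, rfl⟩ := (isRoot_iff hpE7 cs7 a).1 ha
  exact ⟨⟨r, hr⟩, rfl⟩

theorem wt_inj {i j : chevE7.Idx} (h : wt i = wt j) (hi : wt i ≠ 0) : i = j := by
  rcases i with i | i
  · exact absurd rfl hi
  · rcases j with j | j
    · exact absurd h hi
    · exact congrArg Sum.inr (Fin.ext (vec_inj hpE7 i.2 j.2 h))

variable {K : Type u} [Field K]

theorem chain_wt {r s u : ℕ} {km : ℕ × ℤ} (hkm : km ∈ chevE7.chainCoeff r s u) :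
    0 < km.1 ∧ vec chevE7 7 u = vec chevE7 7 s + (km.1 : ℤ) • vec chevE7 7 r := by
  constructor
  · simp only [ChevalleyDatum.chainCoeff, List.mem_flatMap, List.mem_map] at hkm
    obtain ⟨e, -, q, -, rfl⟩ := hkm
    exact Nat.succ_pos _
  · obtain ⟨_, h2⟩ := TorusConj.chainCoeff_wt hpE7.checked hkm
    funext j
    rw [Pi.add_apply, Pi.smul_apply, smul_eq_mul]
    exact h2 j

theorem chain_self {r : ℕ} (hr : r < chevE7.nroots) (s : ℕ) : chevE7.chainCoeff r s s = [] := by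
  rcases hl : chevE7.chainCoeff r s s with _ | ⟨km, l⟩
  · rfl
  · exfalso
    have hkm : km ∈ chevE7.chainCoeff r s s := by rw [hl]; exact List.mem_cons_self
    obtain ⟨h0, h1⟩ := chain_wt hkm
    have h2 : (km.1 : ℤ) • vec chevE7 7 r = 0 := add_eq_left.1 h1.symm
    rcases smul_eq_zero.1 h2 with h3 | h3
    · omega
    · exact vec_ne_zero hr h3

theorem entry_self (r : Fin chevE7.nroots) (t : K) (i : chevE7.Idx) : chevE7.xMat K r t i i = 1 := by
  rcases i with i | s
  · show (if i = i then (1 : K) else 0) = 1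
    rw [if_pos rfl]
  · by_cases hsr : s = r
    · show (if s = r then (if s = r then (1 : K) else 0) else _) = _
      rw [if_pos hsr, if_pos hsr]
    · show (if s = r then (if s = r then (1 : K) else 0) else if s.val = chevE7.negIdx.getD r.val 0 then
        (if s = s then 1 else if s = r then -(t ^ 2) else 0) else
        (if s = s then 1 else 0) + ((chevE7.chainCoeff r.val s.val s.val).map fun km => ((km.2 : ℤ) : K) * t ^ km.1).sum) = _
      rw [if_neg hsr, if_pos rfl, if_pos rfl, chain_self r.2]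
      simp

theorem entry_ne (r : Fin chevE7.nroots) (t : K) {i k : chevE7.Idx} (hik : i ≠ k) (h : chevE7.xMat K r t i k ≠ 0) :
    ∃ m : ℕ, 0 < m ∧ wt i = wt k + (m : ℤ) • vec chevE7 7 r := by
  rcases k with k | s
  · rcases i with i | u
    · exfalso
      apply h
      show (if i = k then (1 : K) else 0) = 0
      rw [if_neg (fun e => hik (congrArg Sum.inl e))]
    · by_cases hu : u = r
      · exact ⟨1, one_pos, by rw [wt_inl, wt_inr, hu]; simp⟩
      · exfalso
        apply h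
        show (if u = r then - (((chevE7.cartanSR.getD k.val #[]).getD r.val 0 : ℤ) : K) * t else 0) = _
        rw [if_neg hu]
  · by_cases hsr : s = r
    · exfalso
      apply h
      rcases i with i | u
      · show (if s = r then (0 : K) else _) = _
        rw [if_pos hsr]
      · show (if s = r then (if u = r then (1 : K) else 0) else _) = _
        rw [if_pos hsr, if_neg]
        rintro rfl
        exact hik (congrArg Sum.inr hsr.symm)
    · by_cases hsn : s.val = chevE7.negIdx.getD r.val 0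
      · have hneg : vec chevE7 7 s = -vec chevE7 7 r := by
          rw [hsn]; exact vec_neg hpE7 r.2
        rcases i with i | u
        · exact ⟨1, one_pos, by rw [wt_inl, wt_inr, hneg]; simp⟩
        · have hus : u ≠ s := fun e => hik (congrArg Sum.inr e)
          by_cases hur : u = r
          · refine ⟨2, two_pos, ?_⟩
            rw [wt_inr, wt_inr, hneg, hur]
            push_cast
            rw [two_smul]
            abel
          · exfalso
            apply h
            show (if s = r then (if u = r then (1 : K) else 0) else if s.val = chevE7.negIdx.getD r.val 0 then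
              (if u = s then 1 else if u = r then -(t ^ 2) else 0) else _) = _
            rw [if_neg hsr, if_pos hsn, if_neg hus, if_neg hur]
      · rcases i with i | u
        · exfalso
          apply h
          show (if s = r then (0 : K) else if s.val = chevE7.negIdx.getD r.val 0 then
              (((chevE7.coroot.getD r.val #[]).getD i.val 0 : ℤ) : K) * t else 0) = _
          rw [if_neg hsr, if_neg hsn]
        · have hus : u ≠ s := fun e => hik (congrArg Sum.inr e)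
          rcases hl : chevE7.chainCoeff r.val s.val u.val with _ | ⟨km, l⟩
          · exfalso
            apply h
            show (if s = r then (if u = r then (1 : K) else 0) else
              if s.val = chevE7.negIdx.getD r.val 0 then _ else (if u = s then 1 else 0) +
              ((chevE7.chainCoeff r.val s.val u.val).map fun km => ((km.2 : ℤ) : K) * t ^ km.1).sum) = _
            rw [if_neg hsr, if_neg hsn, if_neg hus, hl]
            simp
          · have hkm : km ∈ chevE7.chainCoeff r.val s.val u.val := by rw [hl]; exact List.mem_cons_self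
            obtain ⟨h0, h1⟩ := chain_wt hkm
            exact ⟨km.1, h0, h1⟩

/-! ### the filtration -/

/-- the matrices preserving the filtration by the functional `φ` -/
def Fil (K : Type u) [Field K] (φ : (Fin 7 → ℤ) →+ ℤ) : Subgroup (GL chevE7.Idx K) where
  carrier := {g | (g : Matrix chevE7.Idx chevE7.Idx K).BlockTriangular fun i => -φ (wt i)}
  mul_mem' := fun {x} {y} hx hy => by
    change ((x : Matrix chevE7.Idx chevE7.Idx K) * (y : Matrix chevE7.Idx chevE7.Idx K)).BlockTriangular _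
    exact Matrix.BlockTriangular.mul hx hy
  one_mem' := by
    change (1 : Matrix chevE7.Idx chevE7.Idx K).BlockTriangular _
    exact Matrix.blockTriangular_one
  inv_mem' := fun {x} hx => by
    change ((x⁻¹ : GL chevE7.Idx K) : Matrix chevE7.Idx chevE7.Idx K).BlockTriangular _
    have : Invertible (x : Matrix chevE7.Idx chevE7.Idx K) := x.invertible
    rw [Matrix.coe_units_inv]
    exact Matrix.blockTriangular_inv_of_blockTriangular hx

theorem mem_Fil {φ : (Fin 7 → ℤ) →+ ℤ} {g : GL chevE7.Idx K} :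
    g ∈ Fil K φ ↔ ∀ i k, (g : Matrix chevE7.Idx chevE7.Idx K) i k ≠ 0 → φ (wt k) ≤ φ (wt i) := by
  constructor
  · intro hg i k h
    by_contra hc
    exact h (hg (show -φ (wt k) < -φ (wt i) by omega))
  · intro hg i k hik
    have hik' : -φ (wt k) < -φ (wt i) := hik
    by_contra hc
    have := hg i k hc
    omega

theorem xG_mem_Fil {φ : (Fin 7 → ℤ) →+ ℤ} {r : ℕ} (hr : r < chevE7.nroots) (h0 : 0 ≤ φ (vec chevE7 7 r)) (t : K) :
    xG hpE7.inList r t ∈ Fil K φ := by
  rw [mem_Fil]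
  intro i k h
  by_cases hik : i = k
  · rw [hik]
  · rw [coe_xG] at h
    have h1 : chevE7.x K r t = chevE7.xMat K ⟨r, hr⟩ t := by
      unfold ChevalleyDatum.x
      rw [dif_pos hr]
    rw [h1] at h
    obtain ⟨m, hm, e⟩ := entry_ne ⟨r, hr⟩ t hik h
    rw [e, map_add, map_zsmul, smul_eq_mul]
    have : 0 ≤ (m : ℤ) * φ (vec chevE7 7 r) := mul_nonneg (by positivity) h0
    linarith

theorem torus_mem_Fil {φ : (Fin 7 → ℤ) →+ ℤ} {g : GL chevE7.Idx K} (hg : g ∈ chevE7.diagonalSubgroup K) :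
    g ∈ Fil K φ := by
  obtain ⟨χ, h⟩ := HMatDiagAll.mem_torus.1 (HMatDiagAll.diagonalSubgroup_le_torus hpE7.inList hg)
  rw [mem_Fil]
  intro i k h1
  rw [h] at h1
  by_cases hik : i = k
  · rw [hik]
  · exact absurd (Matrix.diagonal_apply_ne _ hik) h1

/-! ### representatives of the elements of the Weyl group -/

/-- `g` maps the weight spaces to the weight spaces by `w` -/
def Mon (w : CoxeterMatrix.E₇.Group) (g : GL chevE7.Idx K) : Prop :=
  ∀ i k, (g : Matrix chevE7.Idx chevE7.Idx K) i k ≠ 0 → wt i = rep cs7 hpE7.isCartan w (wt k)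

theorem Mon.mul {v w : CoxeterMatrix.E₇.Group} {g h : GL chevE7.Idx K} (hg : Mon v g) (hh : Mon w h) :
    Mon (v * w) (g * h) := by
  intro i k hik
  rw [Units.val_mul, Matrix.mul_apply] at hik
  obtain ⟨j, -, hj⟩ := Finset.exists_ne_zero_of_sum_ne_zero hik
  rw [rep_mul_apply, ← hh j k (right_ne_zero_of_mul hj)]
  exact hg i j (left_ne_zero_of_mul hj)

theorem mon_torus {g : GL chevE7.Idx K} (hg : g ∈ chevE7.diagonalSubgroup K) : Mon 1 g := by
  obtain ⟨χ, h⟩ := HMatDiagAll.mem_torus.1 (HMatDiagAll.diagonalSubgroup_le_torus hpE7.inList hg)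
  intro i k h1
  rw [h] at h1
  by_cases hik : i = k
  · rw [hik, map_one, Module.End.one_apply]
  · exact absurd (Matrix.diagonal_apply_ne _ hik) h1

theorem mon_nn (i : Fin 7) : Mon (cs7.simple i) (nn hpE7 K i) := by
  have hi : (i : ℕ) < chevE7.rank := lt_rank hpE7 i
  intro u s hus
  have hc : ((nn hpE7 K i : GL chevE7.Idx K) : Matrix chevE7.Idx chevE7.Idx K) =
      chevE7.nMat K (chevE7.simple i) 1 := coe_nG _ _ _
  rw [hc] at hus
  rcases s with j | s
  · rcases u with j' | u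
    · rw [wt_inl, wt_inl, map_zero]
    · exfalso
      apply hus
      have hlt : chevE7.reflectRoot i u < chevE7.nroots := reflectRoot_lt hpE7.inList hi u.2
      obtain ⟨c, -, -, h2⟩ := NConj.monomial (F := K) hpE7.inList hi ⟨chevE7.reflectRoot i u, hlt⟩
      have e : (⟨chevE7.reflectRoot i (chevE7.reflectRoot i u), Reach.reflect_lt hpE7.inList hi hlt⟩ :
          Fin chevE7.nroots) = u := by
        refine Fin.ext (vec_inj hpE7 (Reach.reflect_lt hpE7.inList hi hlt) u.2 ?_)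
        show vec chevE7 7 (chevE7.reflectRoot i (chevE7.reflectRoot i u)) = vec chevE7 7 u
        rw [← rep_vec hpE7 cs7 i hlt, ← rep_vec hpE7 cs7 i u.2, ← rep_mul_apply, simple_mul_simple_self, map_one,
          Module.End.one_apply]
      have h3 := h2 (Sum.inl j)
      rw [if_neg (by simp)] at h3
      rw [← h3]
      congr 1
      exact congrArg Sum.inr e.symm
  · obtain ⟨c, -, h1, -⟩ := NConj.monomial (F := K) hpE7.inList hi s
    rw [h1 u] at hus
    by_cases hu : u = Sum.inr ⟨chevE7.reflectRoot i s, Reach.reflect_lt hpE7.inList hi s.2⟩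
    · rw [hu, wt_inr, wt_inr, rep_vec hpE7 cs7 i s.2]
    · rw [if_neg hu] at hus
      exact absurd rfl hus

/-- the representative of a simple reflection -/
noncomputable abbrev nc (K : Type u) [Field K] (i : Fin 7) : ↥(chevE7.group K) := ⟨nn hpE7 K i, nn_mem_group hpE7 i⟩

theorem mon_of_rp {hN : NSys CoxeterMatrix.E₇ (TT chevE7 K) (nc K)} {w : CoxeterMatrix.E₇.Group}
    {k : ↥(chevE7.group K)} (hk : Rp cs7 hN w k) : Mon w (k : GL chevE7.Idx K) := by
  obtain ⟨ω, rfl⟩ := cs7.wordProd_surjective w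
  induction ω generalizing k with
  | nil =>
    rw [wordProd_nil] at hk ⊢
    exact mon_torus (Subgroup.mem_subgroupOf.1 hk.mem_of_one)
  | cons i ω ih =>
    rw [wordProd_cons] at hk ⊢
    have h1 : Rp cs7 hN (cs7.wordProd ω) ((nc K i)⁻¹ * k) := by
      have := (rp_simple cs7 hN i).inv.mul hk
      rwa [inv_simple, ← mul_assoc, simple_mul_simple_self, one_mul] at this
    have h2 : k = nc K i * ((nc K i)⁻¹ * k) := by group
    rw [h2]
    exact (mon_nn i).mul (ih h1)

end Cfsg.Agent.H154.PQE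
end

-- part: H154/PQE/Tab
section
/-!
# S4612, `E₇(q)`, primes of orders 5 and 10: the finite checks (helper154)
-/

set_option autoImplicit false
set_option maxRecDepth 100000

namespace Cfsg.Agent.H154.PQE

open Cfsg Cfsg.Lie Cfsg.Lie.ChevalleyDatum
open Cfsg.Agent.ChevalleyStructure Cfsg.Agent.ChevalleyStructure.RootVec Cfsg.Agent.ChevalleyStructure.HMatDiagAll

theorem nroots_eq : chevE7.nroots = 126 := by decide +kernel
/-- the five roots with coefficient 3 at the fifth simple root -/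
def io (i : Fin 5) : ℕ := [118, 122, 123, 124, 125].getD i 0

/-- their negatives -/
def ion (i : Fin 5) : ℕ := 125 - io i

theorem io_lt : ∀ i, io i < chevE7.nroots := by decide +kernel
theorem ion_lt : ∀ i, ion i < chevE7.nroots := by decide +kernel
theorem ion_eq : ∀ i, ion i = chevE7.neg (io i) := by decide +kernel
theorem io_inj : Function.Injective io := by unfold Function.Injective; decide +kernel

theorem io_level : ∀ s < 126, rt chevE7 s 4 = 3 → ∃ i, io i = s := by decide +kernel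
theorem level_io : ∀ i, rt chevE7 (io i) 4 = 3 := by decide +kernel

/-- the root `β_i - β_j` -/
def rij (i j : Fin 5) : ℕ :=
  ([[0, 47, 46, 42, 26], [78, 0, 56, 51, 30], [79, 69, 0, 52, 31], [83, 74, 73, 0, 32], [99, 95, 94, 93, 0]].getD i []).getD j 0

/-- the coefficient of `e_{β_i}` in `x_r(t) e_{β_j}` -/
def cf (r : ℕ) (i j : Fin 5) : ℤ := ((chevE7.chainCoeff r (io j) (io i)).map Prod.snd).sum

/-- the same for the negatives -/
def cfn (r : ℕ) (i j : Fin 5) : ℤ := ((chevE7.chainCoeff r (ion j) (ion i)).map Prod.snd).sum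

theorem chain_one : ∀ r < 126, rt chevE7 r 4 = 0 → ∀ i j : Fin 5,
    (chevE7.chainCoeff r (io j) (io i)).all (fun km => km.1 == 1) = true ∧
    (chevE7.chainCoeff r (ion j) (ion i)).all (fun km => km.1 == 1) = true ∧ cfn r i j = -cf r j i := by
  (delta Cfsg.Agent.H154.PQE.cf Cfsg.Agent.H154.PQE.cfn; rewrite [Cfsg.Agent.ChevFast.E7.chainCoeff]; decide +kernel)

theorem rij_spec : ∀ i j : Fin 5, i ≠ j → rij i j < chevE7.nroots ∧ rt chevE7 (rij i j) 4 = 0 ∧
    (∀ k : Fin 7, rt chevE7 (io i) k = rt chevE7 (io j) k + rt chevE7 (rij i j) k) ∧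
    (cf (rij i j) i j = 1 ∨ cf (rij i j) i j = -1) ∧
    ∀ i' j' : Fin 5, ¬ (i' = i ∧ j' = j) → cf (rij i j) i' j' = 0 := by (delta Cfsg.Agent.H154.PQE.cf; rewrite [Cfsg.Agent.ChevFast.E7.chainCoeff]; decide +kernel)

theorem rij_simple : rij 4 3 = chevE7.simple 0 ∧ rij 1 0 = chevE7.simple 1 ∧ rij 3 2 = chevE7.simple 2 ∧
    rij 2 1 = chevE7.simple 3 := by decide +kernel

theorem expo_neg : ∀ r < 126, ∀ i : Fin 5, expo chevE7 r (ion i) = -expo chevE7 r (io i) := by (delta Cfsg.Agent.ChevalleyStructure.HMatDiagAll.expo; rewrite [Cfsg.Agent.ChevFast.E7.chainEntry, Cfsg.Agent.ChevFast.E7.neg]; decide +kernel)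

theorem rt_bound : ∀ r < 126, -3 ≤ rt chevE7 r 4 ∧ rt chevE7 r 4 ≤ 3 := by decide +kernel

/-- the Gram matrix of the coordinates 4, 5, 6 -/
theorem gram : (∑ r : Fin 126, rt chevE7 r 4 * rt chevE7 r 4) = 270 ∧
    (∑ r : Fin 126, rt chevE7 r 4 * rt chevE7 r 5) = 180 ∧
    (∑ r : Fin 126, rt chevE7 r 4 * rt chevE7 r 6) = 90 ∧
    (∑ r : Fin 126, rt chevE7 r 5 * rt chevE7 r 5) = 144 ∧
    (∑ r : Fin 126, rt chevE7 r 5 * rt chevE7 r 6) = 72 ∧
    (∑ r : Fin 126, rt chevE7 r 6 * rt chevE7 r 6) = 54 := by decide +kernel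

/-- a reduced word of the longest element -/
def w0word : List (Fin 7) := (List.replicate 9 [0, 1, 2, 3, 4, 5, 6]).flatten

theorem w0_check : ∀ k : Fin 7, w0word.foldr (fun (i : Fin 7) r => chevE7.reflectRoot (i : ℕ) r) (chevE7.simple (k : ℕ)) =
    chevE7.neg (chevE7.simple (k : ℕ)) := by (delta Cfsg.Lie.ChevalleyDatum.chainRoot Cfsg.Lie.ChevalleyDatum.reflectRoot; rewrite [Cfsg.Agent.ChevFast.E7.cartan, Cfsg.Agent.ChevFast.E7.chainEntry, Cfsg.Agent.ChevFast.E7.neg]; decide +kernel)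

theorem quad_aux : ∀ a b c : Fin 7, 270 * ((a : ℕ) - 3 : ℤ) * ((a : ℕ) - 3 : ℤ) + 360 * ((a : ℕ) - 3 : ℤ) * ((b : ℕ) - 3 : ℤ) +
    180 * ((a : ℕ) - 3 : ℤ) * ((c : ℕ) - 3 : ℤ) + 144 * ((b : ℕ) - 3 : ℤ) * ((b : ℕ) - 3 : ℤ) +
    144 * ((b : ℕ) - 3 : ℤ) * ((c : ℕ) - 3 : ℤ) + 54 * ((c : ℕ) - 3 : ℤ) * ((c : ℕ) - 3 : ℤ) = 270 →
    (((a : ℕ) - 3 : ℤ) = 1 ∨ ((a : ℕ) - 3 : ℤ) = -1) ∧ ((b : ℕ) - 3 : ℤ) = 0 ∧ ((c : ℕ) - 3 : ℤ) = 0 := by
  decide +kernel

theorem quad {a b c : ℤ} (ha : -3 ≤ a ∧ a ≤ 3) (hb : -3 ≤ b ∧ b ≤ 3) (hc : -3 ≤ c ∧ c ≤ 3)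
    (h : 270 * a * a + 360 * a * b + 180 * a * c + 144 * b * b + 144 * b * c + 54 * c * c = 270) :
    (a = 1 ∨ a = -1) ∧ b = 0 ∧ c = 0 := by
  have key : ∀ x : ℤ, -3 ≤ x ∧ x ≤ 3 → ∃ y : Fin 7, ((y : ℕ) - 3 : ℤ) = x := by
    intro x hx
    refine ⟨⟨(x + 3).toNat, by omega⟩, ?_⟩
    show (((x + 3).toNat : ℕ) : ℤ) - 3 = x
    omega
  obtain ⟨a', rfl⟩ := key a ha
  obtain ⟨b', rfl⟩ := key b hb
  obtain ⟨c', rfl⟩ := key c hc
  exact quad_aux a' b' c' h

theorem cf_sq : ∀ r < 126, rt chevE7 r 4 = 0 → ∀ i j : Fin 5, ∑ k, cf r i k * cf r k j = 0 := by (delta Cfsg.Agent.H154.PQE.cf; rewrite [Cfsg.Agent.ChevFast.E7.chainCoeff]; decide +kernel)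

end Cfsg.Agent.H154.PQE
end

-- part: H154/PQE/Blk
section
/-!
# S4612, `E₇(q)`, primes of orders 5 and 10: the blocks of level 3 and -3 (helper154)
-/

set_option autoImplicit false
set_option linter.unusedSectionVars false
set_option maxRecDepth 100000

namespace Cfsg.Agent.H154.PQE

open CoxeterSystem Cfsg Cfsg.Lie Cfsg.Lie.ChevalleyDatum
open Cfsg.Agent.ChevalleyStructure Cfsg.Agent.ChevalleyStructure.Elts Cfsg.Agent.ChevalleyStructure.CoxeterGeom
  Cfsg.Agent.ChevalleyStructure.CoxeterGeomTypes Cfsg.Agent.ChevalleyStructure.RootVec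
  Cfsg.Agent.ChevalleyStructure.RootVecTab Cfsg.Agent.ChevalleyStructure.NPerm
open Cfsg.Agent.Tits.Roots Cfsg.Agent.Tits.Core Cfsg.Agent.Nodes Cfsg.Agent.Nodes.Reps Cfsg.Agent.Nodes.BNOf
  Cfsg.Agent.Nodes.RGDChev Cfsg.Agent.H35.ExcIdx Cfsg.Agent.Nodes.StabComb Cfsg.Agent.Nodes.Bruhat
  Cfsg.Agent.Nodes.LeviDec Cfsg.Agent.H739.PQ.E7

universe u

variable {K : Type u} [Field K]

/-- the coefficient at the fifth simple root -/
def lev : (Fin 7 → ℤ) →+ ℤ := Pi.evalAddMonoidHom (fun _ => ℤ) 4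

theorem lev_apply (x : Fin 7 → ℤ) : lev x = x 4 := rfl

theorem lev_vec (r : ℕ) : lev (vec chevE7 7 r) = rt chevE7 r 4 := rfl

/-- the elements preserving the filtration by `lev` -/
abbrev FQ (K : Type u) [Field K] : Subgroup ↥(chevE7.group K) := (Fil K lev).subgroupOf (chevE7.group K)

/-- `f` lists the indices of level `c` -/
structure BlkIx (f : Fin 5 → chevE7.Idx) (c : ℤ) : Prop where
  inj : Function.Injective f
  mem : ∀ i, lev (wt (f i)) = c
  surj : ∀ u, lev (wt u) = c → ∃ i, f i = u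

/-- the block of level `c` -/
def blkM {f : Fin 5 → chevE7.Idx} {c : ℤ} (hf : BlkIx f c) : ↥(FQ K) →* Matrix (Fin 5) (Fin 5) K where
  toFun g := (((g : ↥(chevE7.group K)) : GL chevE7.Idx K) : Matrix chevE7.Idx chevE7.Idx K).submatrix f f
  map_one' := by
    change (1 : Matrix chevE7.Idx chevE7.Idx K).submatrix f f = 1
    exact Matrix.submatrix_one f hf.inj
  map_mul' := by
    intro g h
    ext i j
    change ((((g : ↥(chevE7.group K)) : GL chevE7.Idx K) : Matrix chevE7.Idx chevE7.Idx K) *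
      (((h : ↥(chevE7.group K)) : GL chevE7.Idx K) : Matrix chevE7.Idx chevE7.Idx K)) (f i) (f j) = _
    rw [Matrix.mul_apply, Matrix.mul_apply]
    symm
    refine Finset.sum_of_injOn f (fun a _ b _ e => hf.inj e) (fun _ _ => Finset.mem_univ _) ?_ (fun _ _ => rfl)
    intro u _ hu
    by_contra hne
    have h1 := mem_Fil.1 (Subgroup.mem_subgroupOf.1 g.2) (f i) u (left_ne_zero_of_mul hne)
    have h2 := mem_Fil.1 (Subgroup.mem_subgroupOf.1 h.2) u (f j) (right_ne_zero_of_mul hne)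
    rw [hf.mem] at h1 h2
    obtain ⟨k, hk⟩ := hf.surj u (le_antisymm h1 h2)
    exact hu ⟨k, by simp, hk⟩

/-- the block of level `c` as an invertible matrix -/
def blk {f : Fin 5 → chevE7.Idx} {c : ℤ} (hf : BlkIx f c) : ↥(FQ K) →* GL (Fin 5) K := (blkM hf).toHomUnits

theorem blk_apply {f : Fin 5 → chevE7.Idx} {c : ℤ} (hf : BlkIx f c) (g : ↥(FQ K)) (i j : Fin 5) :
    (blk hf g : Matrix (Fin 5) (Fin 5) K) i j =
      (((g : ↥(chevE7.group K)) : GL chevE7.Idx K) : Matrix chevE7.Idx chevE7.Idx K) (f i) (f j) := rfl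

/-- the indices of the five roots -/
def fo (i : Fin 5) : chevE7.Idx := Sum.inr ⟨io i, io_lt i⟩

/-- the indices of their negatives -/
def fn (i : Fin 5) : chevE7.Idx := Sum.inr ⟨ion i, ion_lt i⟩

theorem wt_fo (i : Fin 5) : wt (fo i) = vec chevE7 7 (io i) := rfl

theorem wt_fn (i : Fin 5) : wt (fn i) = -wt (fo i) := by
  rw [fn, wt_inr, fo, wt_inr]
  show vec chevE7 7 (ion i) = -vec chevE7 7 (io i)
  rw [ion_eq, vec_neg hpE7 (io_lt i)]

theorem ixo : BlkIx fo 3 where
  inj i j h := io_inj (congrArg Fin.val (Sum.inr_injective h))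
  mem i := level_io i
  surj := by
    rintro (u | u) hu
    · rw [wt_inl, map_zero] at hu
      exact absurd hu (by decide)
    · obtain ⟨i, hi⟩ := io_level u (u.2.trans_eq nroots_eq) hu
      exact ⟨i, congrArg Sum.inr (Fin.ext hi)⟩

theorem ixn : BlkIx fn (-3) where
  inj i j h := by
    apply ixo.inj
    refine wt_inj (neg_injective ?_) ?_
    · rw [← wt_fn, ← wt_fn, h]
    · rw [wt_fo]
      exact vec_ne_zero (io_lt i)
  mem i := by rw [wt_fn, map_neg, ixo.mem]
  surj := by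
    rintro (u | u) hu
    · rw [wt_inl, map_zero] at hu
      exact absurd hu (by decide)
    · have h1 : lev (vec chevE7 7 (chevE7.neg u)) = 3 := by
        rw [vec_neg hpE7 u.2, map_neg]
        rw [wt_inr] at hu
        rw [hu]; rfl
      obtain ⟨i, hi⟩ := ixo.surj (Sum.inr ⟨chevE7.neg u, neg_lt hpE7.inList u.2⟩) h1
      refine ⟨i, wt_inj ?_ ?_⟩
      · rw [wt_fn, hi, wt_inr, wt_inr]
        show -vec chevE7 7 (chevE7.neg u) = _
        rw [vec_neg hpE7 u.2, _root_.neg_neg]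
      · rw [wt_fn, wt_fo, neg_ne_zero]
        exact vec_ne_zero (io_lt i)

/-! ### root elements -/

/-- root elements -/
noncomputable def xg (r : ℕ) (t : K) : ↥(chevE7.group K) := ⟨xG hpE7.inList r t, xG_mem_group hpE7.inList r t⟩

theorem coe_xg {r : ℕ} (hr : r < chevE7.nroots) (t : K) :
    ((xg r t : GL chevE7.Idx K) : Matrix chevE7.Idx chevE7.Idx K) = chevE7.xMat K ⟨r, hr⟩ t := by
  show ((xG hpE7.inList r t : GL chevE7.Idx K) : Matrix chevE7.Idx chevE7.Idx K) = _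
  rw [coe_xG]
  unfold ChevalleyDatum.x
  rw [dif_pos hr]

theorem mem_XX {r : ℕ} (hr : r < chevE7.nroots) {g : ↥(chevE7.group K)} :
    g ∈ XX chevE7 7 K (vec chevE7 7 r) ↔ ∃ t, g = xg r t := by
  rw [Subgroup.mem_subgroupOf, XV_vec hpE7 K hr, mem_rootSubgroup_iff hpE7.inList]
  constructor
  · rintro ⟨t, e⟩
    exact ⟨t, Subtype.ext e⟩
  · rintro ⟨t, rfl⟩
    exact ⟨t, rfl⟩

theorem xg_mem_XX {r : ℕ} (hr : r < chevE7.nroots) (t : K) : xg r t ∈ XX chevE7 7 K (vec chevE7 7 r) :=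
  (mem_XX hr).2 ⟨t, rfl⟩

theorem XX_le_FQ {x : Fin 7 → ℤ} (hx : IsRoot cs7 hpE7.isCartan x) (h0 : 0 ≤ lev x) : XX chevE7 7 K x ≤ FQ K := by
  obtain ⟨⟨r, hr⟩, rfl⟩ := exists_idx hx
  intro g hg
  obtain ⟨t, rfl⟩ := (mem_XX hr).1 hg
  exact xG_mem_Fil hr h0 t

theorem TT_le_FQ : TT chevE7 K ≤ FQ K := fun _ hg => torus_mem_Fil (Subgroup.mem_subgroupOf.1 hg)

/-- the root elements of positive level are in the kernel of the block maps -/
theorem blk_pos {f : Fin 5 → chevE7.Idx} {c : ℤ} (hf : BlkIx f c) {x : Fin 7 → ℤ} (hx : IsRoot cs7 hpE7.isCartan x)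
    (h0 : 0 < lev x) {g : ↥(chevE7.group K)} (hg : g ∈ XX chevE7 7 K x) :
    blk hf ⟨g, XX_le_FQ hx h0.le hg⟩ = 1 := by
  obtain ⟨⟨r, hr⟩, rfl⟩ := exists_idx hx
  obtain ⟨t, rfl⟩ := (mem_XX hr).1 hg
  apply Units.ext
  ext i j
  rw [blk_apply, Units.val_one]
  show ((xg r t : GL chevE7.Idx K) : Matrix chevE7.Idx chevE7.Idx K) (f i) (f j) = _
  rw [coe_xg hr]
  by_cases hij : i = j
  · rw [hij, entry_self, Matrix.one_apply_eq]
  · rw [Matrix.one_apply_ne hij]
    by_contra h1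
    obtain ⟨m, hm, e⟩ := entry_ne ⟨r, hr⟩ t (fun e => hij (hf.inj e)) h1
    have h2 := congrArg lev e
    rw [map_add, map_zsmul, hf.mem, hf.mem, smul_eq_mul] at h2
    have h3 : 0 < (m : ℤ) * lev (vec chevE7 7 r) := mul_pos (by exact_mod_cast hm) h0
    simp only at h2
    linarith

theorem sum_map_one (l : List (ℕ × ℤ)) (hl : l.all (fun km => km.1 == 1) = true) (t : K) :
    (l.map fun km => ((km.2 : ℤ) : K) * t ^ km.1).sum = (((l.map Prod.snd).sum : ℤ) : K) * t := by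
  induction l with
  | nil => simp
  | cons a l ih =>
    rw [List.all_cons, Bool.and_eq_true, beq_iff_eq] at hl
    rw [List.map_cons, List.sum_cons, ih hl.2, List.map_cons, List.sum_cons, hl.1, pow_one, Int.cast_add, add_mul]

theorem lvl_ne {r s : ℕ} (hr : r < chevE7.nroots) (h0 : rt chevE7 r 4 = 0) (hs : rt chevE7 s 4 ≠ 0) :
    s ≠ r ∧ s ≠ chevE7.negIdx.getD r 0 := by
  constructor
  · rintro rfl
    exact hs h0
  · intro e
    apply hs
    have h1 : rt chevE7 (chevE7.neg r) 4 = -rt chevE7 r 4 := rt_neg hpE7.checked hr 4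
    rw [e]
    show rt chevE7 (chevE7.neg r) 4 = 0
    rw [h1, h0, neg_zero]

/-- the entries of the root elements of level 0 in the block of level 3 -/
theorem x_fo {r : ℕ} (hr : r < chevE7.nroots) (h0 : rt chevE7 r 4 = 0) (t : K) (i j : Fin 5) :
    chevE7.xMat K ⟨r, hr⟩ t (fo i) (fo j) = (if i = j then 1 else 0) + (cf r i j : K) * t := by
  have h3 : rt chevE7 (io j) 4 ≠ 0 := by rw [level_io]; decide
  obtain ⟨h1, h2⟩ := lvl_ne hr h0 h3
  show (if (⟨io j, io_lt j⟩ : Fin chevE7.nroots) = ⟨r, hr⟩ then (if (⟨io i, io_lt i⟩ : Fin chevE7.nroots) = ⟨r, hr⟩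
    then (1 : K) else 0) else if io j = chevE7.negIdx.getD r 0 then _ else
    (if (⟨io i, io_lt i⟩ : Fin chevE7.nroots) = ⟨io j, io_lt j⟩ then 1 else 0) +
    ((chevE7.chainCoeff r (io j) (io i)).map fun km => ((km.2 : ℤ) : K) * t ^ km.1).sum) = _
  rw [if_neg (fun e => h1 (congrArg Fin.val e)), if_neg h2,
    sum_map_one _ (chain_one r (by rwa [nroots_eq] at hr) h0 i j).1]
  congr 1
  by_cases hij : i = j
  · rw [if_pos hij, if_pos (by rw [hij])]
  · rw [if_neg hij, if_neg (fun e => hij (io_inj (congrArg Fin.val e)))]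

/-- the entries of the root elements of level 0 in the block of level -3 -/
theorem x_fn {r : ℕ} (hr : r < chevE7.nroots) (h0 : rt chevE7 r 4 = 0) (t : K) (i j : Fin 5) :
    chevE7.xMat K ⟨r, hr⟩ t (fn i) (fn j) = (if i = j then 1 else 0) - (cf r j i : K) * t := by
  have h3 : rt chevE7 (ion j) 4 ≠ 0 := by
    have := ixn.mem j
    rw [fn, wt_inr, lev_vec] at this
    rw [show rt chevE7 (ion j) 4 = -3 from this]; decide
  obtain ⟨h1, h2⟩ := lvl_ne hr h0 h3
  obtain ⟨-, h4, h5⟩ := chain_one r (by rwa [nroots_eq] at hr) h0 i j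
  show (if (⟨ion j, ion_lt j⟩ : Fin chevE7.nroots) = ⟨r, hr⟩ then (if (⟨ion i, ion_lt i⟩ : Fin chevE7.nroots) = ⟨r, hr⟩
    then (1 : K) else 0) else if ion j = chevE7.negIdx.getD r 0 then _ else
    (if (⟨ion i, ion_lt i⟩ : Fin chevE7.nroots) = ⟨ion j, ion_lt j⟩ then 1 else 0) +
    ((chevE7.chainCoeff r (ion j) (ion i)).map fun km => ((km.2 : ℤ) : K) * t ^ km.1).sum) = _
  rw [if_neg (fun e => h1 (congrArg Fin.val e)), if_neg h2, sum_map_one _ h4]
  have h6 : ((chevE7.chainCoeff r (ion j) (ion i)).map Prod.snd).sum = -cf r j i := h5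
  rw [h6, Int.cast_neg, neg_mul, sub_eq_add_neg]
  congr 1
  by_cases hij : i = j
  · rw [if_pos hij, if_pos (by rw [hij])]
  · rw [if_neg hij, if_neg (fun e => hij (ixn.inj (congrArg Sum.inr e)))]

end Cfsg.Agent.H154.PQE
end

-- part: H154/PQE/Lev
section
/-!
# S4612, `E₇(q)`, primes of orders 5 and 10: the parabolic subgroup and its Levi subgroup (helper154)
-/

set_option autoImplicit false
set_option linter.unusedSectionVars false
set_option maxRecDepth 100000

namespace Cfsg.Agent.H154.PQE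

open CoxeterSystem Cfsg Cfsg.Lie Cfsg.Lie.ChevalleyDatum
open Cfsg.Agent.ChevalleyStructure Cfsg.Agent.ChevalleyStructure.Elts Cfsg.Agent.ChevalleyStructure.CoxeterGeom
  Cfsg.Agent.ChevalleyStructure.CoxeterGeomTypes Cfsg.Agent.ChevalleyStructure.RootVec
  Cfsg.Agent.ChevalleyStructure.RootVecTab Cfsg.Agent.ChevalleyStructure.NPerm
open Cfsg.Agent.Tits.Roots Cfsg.Agent.Tits.Core Cfsg.Agent.Nodes Cfsg.Agent.Nodes.Reps Cfsg.Agent.Nodes.BNOf
  Cfsg.Agent.Nodes.RGDChev Cfsg.Agent.H35.ExcIdx Cfsg.Agent.Nodes.StabComb Cfsg.Agent.Nodes.Bruhat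
  Cfsg.Agent.Nodes.LeviDec Cfsg.Agent.H739.PQ.E7

open scoped Matrix

universe u

variable {K : Type u} [Field K]

/-- all nodes but the fifth -/
abbrev JQ : Set (Fin 7) := {j | j ≠ 4}

/-- the parabolic subgroup -/
abbrev QQ (K : Type u) [Field K] : Subgroup ↥(chevE7.group K) := PJ cs7 hpE7.isCartan (TT chevE7 K) (XX chevE7 7 K) JQ

/-- the Levi subgroup -/
abbrev LL (K : Type u) [Field K] : Subgroup ↥(chevE7.group K) := LJ cs7 hpE7.isCartan (TT chevE7 K) (XX chevE7 7 K) JQ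

/-- the unipotent radical -/
abbrev VV (K : Type u) [Field K] : Subgroup ↥(chevE7.group K) := VJ cs7 hpE7.isCartan (XX chevE7 7 K) JQ

theorem lev_RootsJ {x : Fin 7 → ℤ} (hx : x ∈ RootsJ cs7 hpE7.isCartan JQ) : lev x = 0 :=
  hx.2 4 (fun h => h rfl)

theorem mem_RootsJ {x : Fin 7 → ℤ} : x ∈ RootsJ cs7 hpE7.isCartan JQ ↔ IsRoot cs7 hpE7.isCartan x ∧ lev x = 0 := by
  refine ⟨fun h => ⟨h.1, lev_RootsJ h⟩, fun h => ⟨h.1, fun k hk => ?_⟩⟩
  have : k = 4 := by
    by_contra hc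
    exact hk hc
  rw [this]
  exact h.2

theorem lev_NotJ {x : Fin 7 → ℤ} (hx : x ∈ NotJ cs7 hpE7.isCartan JQ) : 0 < lev x := by
  obtain ⟨-, -, k, hk, h0⟩ := hx
  have : k = 4 := by
    by_contra hc
    exact hk hc
  rw [this] at h0
  exact h0

theorem mem_NotJ {x : Fin 7 → ℤ} : x ∈ NotJ cs7 hpE7.isCartan JQ ↔ IsRoot cs7 hpE7.isCartan x ∧ 0 < lev x := by
  refine ⟨fun h => ⟨h.1, lev_NotJ h⟩, fun h => ⟨h.1, nonneg_of_pos_apply h.1 h.2, 4, fun h => h rfl, h.2⟩⟩

theorem LL_le : LL K ≤ FQ K :=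
  sup_le TT_le_FQ (RGD.Sup_le fun _ hx => XX_le_FQ hx.1 (lev_RootsJ hx).ge)

theorem VV_le : VV K ≤ FQ K := RGD.Sup_le fun _ hx => XX_le_FQ hx.1 (lev_NotJ hx).le

theorem QQ_le : QQ K ≤ FQ K := sup_le LL_le VV_le

/-- the action on the five root vectors -/
def rho (K : Type u) [Field K] : ↥(QQ K) →* GL (Fin 5) K := (blk ixo).comp (Subgroup.inclusion QQ_le)

theorem rho_apply (z : ↥(QQ K)) (i j : Fin 5) : (rho K z : Matrix (Fin 5) (Fin 5) K) i j =
    (((z : ↥(chevE7.group K)) : GL chevE7.Idx K) : Matrix chevE7.Idx chevE7.Idx K) (fo i) (fo j) := rfl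

/-- the kernel of the action as a subgroup of `G` -/
abbrev KQ (K : Type u) [Field K] : Subgroup ↥(chevE7.group K) := (rho K).ker.map (QQ K).subtype

theorem mem_KQ {g : ↥(chevE7.group K)} : g ∈ KQ K ↔ ∃ h : g ∈ QQ K, rho K ⟨g, h⟩ = 1 := by
  constructor
  · rintro ⟨z, hz, rfl⟩
    exact ⟨z.2, hz⟩
  · rintro ⟨h, e⟩
    exact ⟨⟨g, h⟩, e, rfl⟩

theorem XX_le_KQ {x : Fin 7 → ℤ} (hx : IsRoot cs7 hpE7.isCartan x) (h0 : 0 < lev x) : XX chevE7 7 K x ≤ KQ K := by
  intro g hg
  have h1 : g ∈ QQ K := VJ_le_PJ ((RGD.le_Sup (S := NotJ cs7 hpE7.isCartan JQ) (mem_NotJ.2 ⟨hx, h0⟩)) hg)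
  exact mem_KQ.2 ⟨h1, blk_pos ixo hx h0 hg⟩

/-! ### inverse transpose -/

theorem eq_tau {A B : GL (Fin 5) K} (h : (A : Matrix (Fin 5) (Fin 5) K)ᵀ * (B : Matrix (Fin 5) (Fin 5) K) = 1) :
    B = tau A := by
  have h1 : (tau A)⁻¹ * B = 1 := by
    apply Units.ext
    rw [Units.val_mul, Units.val_one]
    exact h
  rwa [inv_mul_eq_one, eq_comm] at h1

theorem tau_mul (A B : GL (Fin 5) K) : tau (A * B) = tau A * tau B := by
  symm
  apply eq_tau
  rw [Units.val_mul, Units.val_mul, Matrix.transpose_mul, mul_assoc, ← mul_assoc (A : Matrix (Fin 5) (Fin 5) K)ᵀ]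
  have h1 : (A : Matrix (Fin 5) (Fin 5) K)ᵀ * (tau A : Matrix (Fin 5) (Fin 5) K) = 1 := (tau A).inv_val
  have h2 : (B : Matrix (Fin 5) (Fin 5) K)ᵀ * (tau B : Matrix (Fin 5) (Fin 5) K) = 1 := (tau B).inv_val
  rw [h1, one_mul, h2]

/-- inverse transpose as a homomorphism -/
def tauHom (K : Type u) [Field K] : GL (Fin 5) K →* GL (Fin 5) K where
  toFun := tau
  map_one' := by
    symm
    apply eq_tau
    rw [Units.val_one, Matrix.transpose_one, one_mul]
  map_mul' := tau_mul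

/-- diagonal elements: the entries at a root and its negative are inverse to each other -/
theorem torus_neg {g : GL chevE7.Idx K} (hg : g ∈ chevE7.diagonalSubgroup K) :
    ∃ χ : Fin 5 → K, (∀ i j, (g : Matrix chevE7.Idx chevE7.Idx K) (fo i) (fo j) = Matrix.diagonal χ i j) ∧
      ∀ i j, (g : Matrix chevE7.Idx chevE7.Idx K) (fn i) (fn j) = Matrix.diagonal (fun i => (χ i)⁻¹) i j := by
  have hdiag : ∀ {g : GL chevE7.Idx K}, g ∈ chevE7.diagonalSubgroup K → ∀ i k, i ≠ k →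
      (g : Matrix chevE7.Idx chevE7.Idx K) i k = 0 := by
    intro g hg i k hik
    obtain ⟨χ, h⟩ := HMatDiagAll.mem_torus.1 (HMatDiagAll.diagonalSubgroup_le_torus hpE7.inList hg)
    rw [h, Matrix.diagonal_apply_ne _ hik]
  have key : ∀ i, (g : Matrix chevE7.Idx chevE7.Idx K) (fn i) (fn i) =
      ((g : Matrix chevE7.Idx chevE7.Idx K) (fo i) (fo i))⁻¹ := by
    have hmul : ∀ {a b : GL chevE7.Idx K}, a ∈ chevE7.diagonalSubgroup K → ∀ k,
        ((a * b : GL chevE7.Idx K) : Matrix chevE7.Idx chevE7.Idx K) k k =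
          (a : Matrix chevE7.Idx chevE7.Idx K) k k * (b : Matrix chevE7.Idx chevE7.Idx K) k k := by
      intro a b ha k
      rw [Units.val_mul, Matrix.mul_apply, Finset.sum_eq_single k]
      · intro l _ hl
        rw [hdiag ha k l hl.symm, zero_mul]
      · intro h
        exact absurd (Finset.mem_univ _) h
    unfold ChevalleyDatum.diagonalSubgroup at hg
    induction hg using Subgroup.closure_induction with
    | mem x hx =>
      obtain ⟨r, t, hr, ht, hx⟩ := hx
      intro i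
      rw [hx, HMatDiagAll.hMat_eq_diagonal hpE7.inList hr ht]
      rw [Matrix.diagonal_apply_eq, Matrix.diagonal_apply_eq]
      show t ^ HMatDiagAll.expo chevE7 r (ion i) = (t ^ HMatDiagAll.expo chevE7 r (io i))⁻¹
      rw [expo_neg r (by rwa [nroots_eq] at hr) i, zpow_neg]
    | one => intro i; simp
    | mul a b ha hb iha ihb =>
      intro i
      rw [hmul ha, hmul ha, iha, ihb, mul_inv]
    | inv a ha iha =>
      intro i
      have h1 : ∀ k, (a : Matrix chevE7.Idx chevE7.Idx K) k k *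
          ((a⁻¹ : GL chevE7.Idx K) : Matrix chevE7.Idx chevE7.Idx K) k k = 1 := by
        intro k
        rw [← hmul ha, mul_inv_cancel, Units.val_one, Matrix.one_apply_eq]
      have h2 : ∀ k, ((a⁻¹ : GL chevE7.Idx K) : Matrix chevE7.Idx chevE7.Idx K) k k =
          ((a : Matrix chevE7.Idx chevE7.Idx K) k k)⁻¹ := fun k => eq_inv_of_mul_eq_one_right (h1 k)
      rw [h2, h2, iha]
  refine ⟨fun i => (g : Matrix chevE7.Idx chevE7.Idx K) (fo i) (fo i), fun i j => ?_, fun i j => ?_⟩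
  · by_cases hij : i = j
    · rw [hij, Matrix.diagonal_apply_eq]
    · rw [Matrix.diagonal_apply_ne _ hij, hdiag hg _ _ (fun e => hij (ixo.inj e))]
  · by_cases hij : i = j
    · rw [hij, Matrix.diagonal_apply_eq, key]
    · rw [Matrix.diagonal_apply_ne _ hij, hdiag hg _ _ (fun e => hij (ixn.inj e))]

theorem diag_ne_zero {g : GL chevE7.Idx K} (hg : g ∈ chevE7.diagonalSubgroup K) (k : chevE7.Idx) :
    (g : Matrix chevE7.Idx chevE7.Idx K) k k ≠ 0 := by
  obtain ⟨χ, h⟩ := HMatDiagAll.mem_torus.1 (HMatDiagAll.diagonalSubgroup_le_torus hpE7.inList hg)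
  intro h0
  have h1 : ((g * g⁻¹ : GL chevE7.Idx K) : Matrix chevE7.Idx chevE7.Idx K) k k = 1 := by
    rw [mul_inv_cancel, Units.val_one, Matrix.one_apply_eq]
  rw [Units.val_mul, h, Matrix.diagonal_mul] at h1
  rw [h, Matrix.diagonal_apply_eq] at h0
  rw [h0, zero_mul] at h1
  exact zero_ne_one h1

/-- **the blocks of level 3 and -3 of an element of the Levi subgroup are dual to each other** -/
theorem LL_le_eq : LL K ≤ ((blk (K := K) ixn).eqLocus ((tauHom K).comp (blk ixo))).map (FQ K).subtype := by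
  refine sup_le ?_ (RGD.Sup_le fun x hx => ?_)
  · intro g hg
    refine ⟨⟨g, TT_le_FQ hg⟩, ?_, rfl⟩
    refine eq_tau ?_
    obtain ⟨χ, h1, h2⟩ := torus_neg (Subgroup.mem_subgroupOf.1 hg)
    have e1 : (blk ixo ⟨g, TT_le_FQ hg⟩ : Matrix (Fin 5) (Fin 5) K) = Matrix.diagonal χ := by
      ext i j
      exact h1 i j
    have e2 : (blk ixn ⟨g, TT_le_FQ hg⟩ : Matrix (Fin 5) (Fin 5) K) = Matrix.diagonal (fun i => (χ i)⁻¹) := by
      ext i j
      exact h2 i j
    rw [e1, e2, Matrix.diagonal_transpose, Matrix.diagonal_mul_diagonal, ← Matrix.diagonal_one]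
    congr 1
    funext i
    refine mul_inv_cancel₀ ?_
    have h3 := h1 i i
    rw [Matrix.diagonal_apply_eq] at h3
    rw [← h3]
    exact diag_ne_zero (Subgroup.mem_subgroupOf.1 hg) _
  · obtain ⟨⟨r, hr⟩, rfl⟩ := exists_idx hx.1
    have h0 : rt chevE7 r 4 = 0 := lev_RootsJ hx
    intro g hg
    obtain ⟨t, rfl⟩ := (mem_XX hr).1 hg
    have hm := XX_le_FQ hx.1 (lev_RootsJ hx).ge hg
    refine ⟨⟨xg r t, hm⟩, ?_, rfl⟩
    refine eq_tau ?_
    ext i j
    rw [Matrix.mul_apply]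
    have e1 : ∀ i j, (blk ixo ⟨xg r t, hm⟩ : Matrix (Fin 5) (Fin 5) K) i j = (if i = j then 1 else 0) + (cf r i j : K) * t := by
      intro i j
      rw [blk_apply]
      show ((xg r t : GL chevE7.Idx K) : Matrix chevE7.Idx chevE7.Idx K) (fo i) (fo j) = _
      rw [coe_xg hr, x_fo hr h0]
    have e2 : ∀ i j, (blk ixn ⟨xg r t, hm⟩ : Matrix (Fin 5) (Fin 5) K) i j = (if i = j then 1 else 0) - (cf r j i : K) * t := by
      intro i j
      rw [blk_apply]
      show ((xg r t : GL chevE7.Idx K) : Matrix chevE7.Idx chevE7.Idx K) (fn i) (fn j) = _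
      rw [coe_xg hr, x_fn hr h0]
    have e3 : ∑ k, (cf r j k : K) * (cf r k i : K) = 0 := by
      have := cf_sq r (by rwa [nroots_eq] at hr) h0 j i
      exact_mod_cast congrArg (Int.cast : ℤ → K) this
    calc ∑ k, (blk ixo ⟨xg r t, hm⟩ : Matrix (Fin 5) (Fin 5) K)ᵀ i k * (blk ixn ⟨xg r t, hm⟩ : Matrix (Fin 5) (Fin 5) K) k j
        = ∑ k, ((if k = i then 1 else 0) * (if k = j then 1 else 0) - (if k = i then 1 else 0) * ((cf r j k : K) * t) +
          (if k = j then 1 else 0) * ((cf r k i : K) * t) - t * t * ((cf r j k : K) * (cf r k i : K))) := by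
          refine Finset.sum_congr rfl fun k _ => ?_
          rw [Matrix.transpose_apply, e1, e2]
          ring
      _ = (1 : Matrix (Fin 5) (Fin 5) K) i j := by
          rw [Finset.sum_sub_distrib, ← Finset.mul_sum, e3, mul_zero, sub_zero, Finset.sum_add_distrib,
            Finset.sum_sub_distrib]
          simp only [ite_mul, one_mul, zero_mul, Finset.sum_ite_eq', Finset.mem_univ, if_true]
          rw [Matrix.one_apply]
          ring

theorem blk_tau {z : ↥(chevE7.group K)} (hz : z ∈ LL K) (h1 : z ∈ FQ K) : blk ixn ⟨z, h1⟩ = tau (blk ixo ⟨z, h1⟩) := by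
  obtain ⟨z', hz', e⟩ := LL_le_eq hz
  have e' : z' = ⟨z, h1⟩ := Subtype.ext e
  rw [← e']
  exact hz'

/-! ### transvections -/

theorem vec_rij {i j : Fin 5} (hij : i ≠ j) : vec chevE7 7 (io i) = vec chevE7 7 (io j) + vec chevE7 7 (rij i j) := by
  funext k
  exact (rij_spec i j hij).2.2.1 k

theorem rij_mem {i j : Fin 5} (hij : i ≠ j) : vec chevE7 7 (rij i j) ∈ RootsJ cs7 hpE7.isCartan JQ :=
  mem_RootsJ.2 ⟨isRoot_vec hpE7 cs7 (rij_spec i j hij).1, (rij_spec i j hij).2.1⟩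

/-- the root element acting as the transvection `1 + c E_ij` -/
theorem exists_transv {i j : Fin 5} (hij : i ≠ j) (c : K) : ∃ z : ↥(QQ K), (z : ↥(chevE7.group K)) ∈ LL K ∧
    (z : ↥(chevE7.group K)) ∈ XX chevE7 7 K (vec chevE7 7 (rij i j)) ∧
    (rho K z : Matrix (Fin 5) (Fin 5) K) = 1 + Matrix.single i j c := by
  obtain ⟨hr, h0, -, h1, h2⟩ := rij_spec i j hij
  obtain ⟨c', hc'⟩ : ∃ c' : K, (cf (rij i j) i j : K) * c' = c := by
    rcases h1 with h1 | h1
    · exact ⟨c, by rw [h1]; simp⟩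
    · exact ⟨-c, by rw [h1]; simp⟩
  have hm := xg_mem_XX hr c'
  have hL : xg (rij i j) c' ∈ LL K := X_le_LJ (rij_mem hij) hm
  refine ⟨⟨xg (rij i j) c', LJ_le_PJ hL⟩, hL, hm, ?_⟩
  ext a b
  rw [rho_apply]
  show ((xg (rij i j) c' : GL chevE7.Idx K) : Matrix chevE7.Idx chevE7.Idx K) (fo a) (fo b) = _
  rw [coe_xg hr, x_fo hr h0, Matrix.add_apply, Matrix.one_apply]
  congr 1
  by_cases hab : a = i ∧ b = j
  · obtain ⟨rfl, rfl⟩ := hab
    rw [hc', Matrix.single_apply_same]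
  · rw [h2 a b hab, Int.cast_zero, zero_mul, Matrix.single_apply_of_ne]
    rintro ⟨rfl, rfl⟩
    exact hab ⟨rfl, rfl⟩

/-- **the Levi subgroup induces a group containing `SL₅` -/
theorem exists_of_det {g : GL (Fin 5) K} (hg : (g : Matrix (Fin 5) (Fin 5) K).det = 1) :
    ∃ z : ↥(QQ K), (z : ↥(chevE7.group K)) ∈ LL K ∧ rho K z = g := by
  let H : Subgroup (GL (Fin 5) K) := ((LL K).subgroupOf (QQ K)).map (rho K)
  have h1 : (⊤ : Subgroup (Matrix.SpecialLinearGroup (Fin 5) K)) ≤ H.comap Matrix.SpecialLinearGroup.toGL := by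
    rw [← LieClassical.SLGen.closure_transvections, Subgroup.closure_le]
    rintro _ ⟨i, j, hij, c, rfl⟩
    obtain ⟨z, hz, -, e⟩ := exists_transv hij c
    refine ⟨z, hz, Units.ext ?_⟩
    rw [e]
    rfl
  obtain ⟨z, hz, e⟩ := h1 (Subgroup.mem_top ⟨(g : Matrix (Fin 5) (Fin 5) K), hg⟩)
  refine ⟨z, hz, ?_⟩
  rw [e]
  exact Units.ext rfl

end Cfsg.Agent.H154.PQE
end

-- part: H154/PQE/Opp
section
/-!
# S4612, `E₇(q)`, primes of orders 5 and 10: the double coset of the longest element (helper154)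
-/

set_option autoImplicit false
set_option linter.unusedSectionVars false
set_option maxRecDepth 100000

namespace Cfsg.Agent.H154.PQE

open CoxeterSystem Cfsg Cfsg.Lie Cfsg.Lie.ChevalleyDatum
open Cfsg.Agent.ChevalleyStructure Cfsg.Agent.ChevalleyStructure.Elts Cfsg.Agent.ChevalleyStructure.CoxeterGeom
  Cfsg.Agent.ChevalleyStructure.CoxeterGeomTypes Cfsg.Agent.ChevalleyStructure.RootVec
  Cfsg.Agent.ChevalleyStructure.RootVecTab Cfsg.Agent.ChevalleyStructure.NPerm
open Cfsg.Agent.Tits.Roots Cfsg.Agent.Tits.Core Cfsg.Agent.Nodes Cfsg.Agent.Nodes.Reps Cfsg.Agent.Nodes.BNOf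
  Cfsg.Agent.Nodes.RGDChev Cfsg.Agent.H35.ExcIdx Cfsg.Agent.Nodes.StabComb Cfsg.Agent.Nodes.Bruhat
  Cfsg.Agent.Nodes.LeviDec Cfsg.Agent.Nodes.OppDec Cfsg.Agent.H739.PQ.E7
open scoped Matrix

universe u

variable {K : Type u} [Field K]

theorem sum_sr (x : Fin 7 → ℤ) : x = ∑ k, x k • (sr k : Fin 7 → ℤ) := by
  funext j
  simp [Finset.sum_apply, sr, Pi.single_apply]

theorem rep_word (ω : List (Fin 7)) {r : ℕ} (hr : r < chevE7.nroots) :
    ω.foldr (fun (i : Fin 7) r => chevE7.reflectRoot (i : ℕ) r) r < chevE7.nroots ∧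
    rep cs7 hpE7.isCartan (cs7.wordProd ω) (vec chevE7 7 r) =
      vec chevE7 7 (ω.foldr (fun (i : Fin 7) r => chevE7.reflectRoot (i : ℕ) r) r) := by
  induction ω with
  | nil =>
    refine ⟨hr, ?_⟩
    rw [wordProd_nil, map_one, Module.End.one_apply]
    rfl
  | cons i ω ih =>
    rw [List.foldr_cons]
    refine ⟨reflectRoot_lt hpE7.inList (lt_rank hpE7 i) ih.1, ?_⟩
    rw [wordProd_cons, rep_mul_apply, ih.2, rep_vec hpE7 cs7 i ih.1]

/-- the longest element acts as `-1` -/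
theorem exists_w0 : ∃ w : CoxeterMatrix.E₇.Group, ∀ x, rep cs7 hpE7.isCartan w x = -x := by
  refine ⟨cs7.wordProd w0word, fun x => ?_⟩
  have h1 : ∀ k : Fin 7, rep cs7 hpE7.isCartan (cs7.wordProd w0word) (sr k) = -sr k := by
    intro k
    have hs := simple_lt hpE7.inList (lt_rank hpE7 k)
    rw [← vec_simple hpE7 k, (rep_word w0word hs).2, w0_check k, vec_neg hpE7 hs]
  conv_lhs => rw [sum_sr x]
  conv_rhs => rw [sum_sr x]
  rw [map_sum, ← Finset.sum_neg_distrib]
  refine Finset.sum_congr rfl fun k _ => ?_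
  rw [map_smul, h1, smul_neg]

theorem w0_inv {w : CoxeterMatrix.E₇.Group} (hw : ∀ x, rep cs7 hpE7.isCartan w x = -x) (x : Fin 7 → ℤ) :
    rep cs7 hpE7.isCartan w⁻¹ x = -x := by
  have h1 : rep cs7 hpE7.isCartan w⁻¹ (rep cs7 hpE7.isCartan w (-x)) = -x := rep_inv_apply _ _ _ _
  rwa [hw, _root_.neg_neg] at h1

variable {p : ℕ} (R : RGD cs7 hpE7.isCartan p (TT chevE7 K) (nc K) (XX chevE7 7 K))

include R

theorem cj_LL {w : CoxeterMatrix.E₇.Group} (hw : ∀ x, rep cs7 hpE7.isCartan w x = -x) {k : ↥(chevE7.group K)}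
    (hk : Rp cs7 R.nsys w k) : cj k (LL K) ≤ LL K := by
  unfold LL LJ
  rw [cj_sup, cj_T R hk]
  refine sup_le_sup_left (cj_Sup_le R hk (fun x hx => hx.1) fun x hx => ?_) _
  rw [hw]
  exact RootsJ.neg hx

theorem cj_VV {w : CoxeterMatrix.E₇.Group} (hw : ∀ x, rep cs7 hpE7.isCartan w x = -x) {k : ↥(chevE7.group K)}
    (hk : Rp cs7 R.nsys w k) : cj k (VV K) ≤ VNJ cs7 hpE7.isCartan (XX chevE7 7 K) JQ := by
  unfold VV VJ VNJ
  refine cj_Sup_le R hk (fun x hx => hx.1) fun x hx => ?_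
  rw [hw]
  show - -x ∈ NotJ cs7 hpE7.isCartan JQ
  rwa [_root_.neg_neg]

theorem mem_LL_of_conj {w : CoxeterMatrix.E₇.Group} (hw : ∀ x, rep cs7 hpE7.isCartan w x = -x)
    {k : ↥(chevE7.group K)} (hk : Rp cs7 R.nsys w k) {z : ↥(chevE7.group K)} (hz : z ∈ QQ K)
    (hz' : k⁻¹ * z * k ∈ QQ K) : z ∈ LL K := by
  have hfin := finite_W hpE7 cs7
  unfold LL
  rw [← PJ_inf_PNJ R JQ]
  refine ⟨hz, (mem_PNJ R).2 ?_⟩
  obtain ⟨l, hl, v, hv, e⟩ := (mem_PJ R).1 hz'
  refine ⟨k * l * k⁻¹, cj_LL R hw hk (conj_mem_cj.2 hl), k * v * k⁻¹, cj_VV R hw hk (conj_mem_cj.2 hv), ?_⟩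
  have h1 : z = k * (k⁻¹ * z * k) * k⁻¹ := by group
  rw [h1, e]
  group

theorem conj_mem_LL {w : CoxeterMatrix.E₇.Group} (hw : ∀ x, rep cs7 hpE7.isCartan w x = -x)
    {k : ↥(chevE7.group K)} (hk : Rp cs7 R.nsys w k) {z : ↥(chevE7.group K)} (hz : z ∈ LL K) :
    k⁻¹ * z * k ∈ LL K := by
  have h1 := cj_LL R (w0_inv hw) hk.inv (conj_mem_cj.2 hz)
  rwa [inv_inv] at h1

theorem opp_of_rp {w : CoxeterMatrix.E₇.Group} (hw : ∀ x, rep cs7 hpE7.isCartan w x = -x)
    {k : ↥(chevE7.group K)} (hk : Rp cs7 R.nsys w k) : Opp (rho K) k := by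
  constructor
  · intro z hz
    have hL : (z : ↥(chevE7.group K)) ∈ LL K := mem_LL_of_conj R hw hk z.2 hz
    have hM : Mon w (k : GL chevE7.Idx K) := mon_of_rp hk
    have hM' : Mon w⁻¹ ((k⁻¹ : ↥(chevE7.group K)) : GL chevE7.Idx K) := mon_of_rp hk.inv
    -- the entries of `k` and of its inverse
    have hk1 : ∀ b j, ((k : GL chevE7.Idx K) : Matrix chevE7.Idx chevE7.Idx K) b (fo j) ≠ 0 → b = fn j := by
      intro b j hb
      have h1 := hM b (fo j) hb
      rw [hw, ← wt_fn] at h1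
      exact (wt_inj h1.symm (by rw [wt_fn, neg_ne_zero, wt_fo]; exact vec_ne_zero (io_lt j))).symm
    have hk2 : ∀ a i, (((k⁻¹ : ↥(chevE7.group K)) : GL chevE7.Idx K) : Matrix chevE7.Idx chevE7.Idx K) (fo i) a ≠ 0 →
        a = fn i := by
      intro a i ha
      have h1 := hM' (fo i) a ha
      rw [w0_inv hw, eq_neg_iff_add_eq_zero, add_comm, ← eq_neg_iff_add_eq_zero, ← wt_fn] at h1
      exact (wt_inj h1.symm (by rw [wt_fn, neg_ne_zero, wt_fo]; exact vec_ne_zero (io_lt i))).symm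
    have hr : ∀ (M : Matrix chevE7.Idx chevE7.Idx K) a j,
        (M * ((k : GL chevE7.Idx K) : Matrix chevE7.Idx chevE7.Idx K)) a (fo j) =
          M a (fn j) * ((k : GL chevE7.Idx K) : Matrix chevE7.Idx chevE7.Idx K) (fn j) (fo j) := by
      intro M a j
      rw [Matrix.mul_apply, Finset.sum_eq_single (fn j)]
      · intro b _ hb
        have : ((k : GL chevE7.Idx K) : Matrix chevE7.Idx chevE7.Idx K) b (fo j) = 0 := by
          by_contra h
          exact hb (hk1 b j h)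
        rw [this, mul_zero]
      · intro h
        exact absurd (Finset.mem_univ _) h
    have hl : ∀ (M : Matrix chevE7.Idx chevE7.Idx K) i b,
        ((((k⁻¹ : ↥(chevE7.group K)) : GL chevE7.Idx K) : Matrix chevE7.Idx chevE7.Idx K) * M) (fo i) b =
          (((k⁻¹ : ↥(chevE7.group K)) : GL chevE7.Idx K) : Matrix chevE7.Idx chevE7.Idx K) (fo i) (fn i) * M (fn i) b := by
      intro M i b
      rw [Matrix.mul_apply, Finset.sum_eq_single (fn i)]
      · intro a _ ha
        have : (((k⁻¹ : ↥(chevE7.group K)) : GL chevE7.Idx K) : Matrix chevE7.Idx chevE7.Idx K) (fo i) a = 0 := by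
          by_contra h
          exact ha (hk2 a i h)
        rw [this, zero_mul]
      · intro h
        exact absurd (Finset.mem_univ _) h
    have hed : ∀ i, (((k⁻¹ : ↥(chevE7.group K)) : GL chevE7.Idx K) : Matrix chevE7.Idx chevE7.Idx K) (fo i) (fn i) *
        ((k : GL chevE7.Idx K) : Matrix chevE7.Idx chevE7.Idx K) (fn i) (fo i) = 1 := by
      intro i
      rw [← hr]
      have h1 : (((k⁻¹ : ↥(chevE7.group K)) : GL chevE7.Idx K) : Matrix chevE7.Idx chevE7.Idx K) *
          ((k : GL chevE7.Idx K) : Matrix chevE7.Idx chevE7.Idx K) = 1 := by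
        rw [← Units.val_mul, ← Subgroup.coe_mul, inv_mul_cancel, Subgroup.coe_one, Units.val_one]
      rw [h1, Matrix.one_apply_eq]
    -- the conjugating element
    let c : GL (Fin 5) K :=
      ⟨Matrix.diagonal fun i => ((k : GL chevE7.Idx K) : Matrix chevE7.Idx chevE7.Idx K) (fn i) (fo i),
        Matrix.diagonal fun i => (((k⁻¹ : ↥(chevE7.group K)) : GL chevE7.Idx K) : Matrix chevE7.Idx chevE7.Idx K) (fo i) (fn i),
        by
          rw [Matrix.diagonal_mul_diagonal, ← Matrix.diagonal_one]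
          congr 1
          funext i
          rw [mul_comm]
          exact hed i,
        by
          rw [Matrix.diagonal_mul_diagonal, ← Matrix.diagonal_one]
          congr 1
          funext i
          exact hed i⟩
    have hc : (c : Matrix (Fin 5) (Fin 5) K) =
      Matrix.diagonal fun i => ((k : GL chevE7.Idx K) : Matrix chevE7.Idx chevE7.Idx K) (fn i) (fo i) := rfl
    have hτ : tau (rho K z) = blk ixn ⟨z, LL_le hL⟩ := (blk_tau hL (LL_le hL)).symm
    rw [hτ]
    refine isConj_iff.2 ⟨c, ?_⟩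
    rw [mul_inv_eq_iff_eq_mul]
    apply Units.ext
    ext i j
    rw [Units.val_mul, Units.val_mul, hc, Matrix.diagonal_mul, Matrix.mul_diagonal, rho_apply, blk_apply]
    have e1 : (((k⁻¹ * (z : ↥(chevE7.group K)) * k : ↥(chevE7.group K)) : GL chevE7.Idx K) :
        Matrix chevE7.Idx chevE7.Idx K) (fo i) (fo j) =
        (((k⁻¹ : ↥(chevE7.group K)) : GL chevE7.Idx K) : Matrix chevE7.Idx chevE7.Idx K) (fo i) (fn i) *
        (((z : ↥(chevE7.group K)) : GL chevE7.Idx K) : Matrix chevE7.Idx chevE7.Idx K) (fn i) (fn j) *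
        ((k : GL chevE7.Idx K) : Matrix chevE7.Idx chevE7.Idx K) (fn j) (fo j) := by
      rw [Subgroup.coe_mul, Subgroup.coe_mul, Units.val_mul, Units.val_mul, hr, hl]
    show _ * (((k⁻¹ * (z : ↥(chevE7.group K)) * k : ↥(chevE7.group K)) : GL chevE7.Idx K) :
        Matrix chevE7.Idx chevE7.Idx K) (fo i) (fo j) =
        (((z : ↥(chevE7.group K)) : GL chevE7.Idx K) : Matrix chevE7.Idx chevE7.Idx K) (fn i) (fn j) * _
    rw [e1]
    linear_combination ((((z : ↥(chevE7.group K)) : GL chevE7.Idx K) : Matrix chevE7.Idx chevE7.Idx K) (fn i) (fn j) *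
      ((k : GL chevE7.Idx K) : Matrix chevE7.Idx chevE7.Idx K) (fn j) (fo j)) * hed i
  · intro g hg
    obtain ⟨z, hz, e⟩ := exists_of_det hg
    exact ⟨z, LJ_le_PJ (conj_mem_LL R hw hk hz), e⟩

end Cfsg.Agent.H154.PQE
end

private theorem dce_f139c3f757ac : _root_.True := by
  try have : _root_.True := by simp only [_root_.Cfsg.Agent.H154.PQE.fn.eq_1]
  try have : _root_.True := by simp only [_root_.Cfsg.Lie.ChevalleyDatum.chainCoeff.eq_1]
  try have : _root_.True := by simp only [_root_.Cfsg.Agent.H154.PQE.fo.eq_1]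
  exact _root_.True.intro
end
end
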